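import Groth.Prelude.Def_FSch3
import Groth.Agent.IdealSh.Stalk
import Groth.Agent.IdealSh.Comap
import Groth.Agent.S13600
import Groth.Agent.S2803
import Groth.Agent.CycLib.ClosedPt

/-!
Morphisms which are closed immersions or isomorphisms on thickenings, near the support.
-/

set_option autoImplicit false
set_option linter.style.haveILetI false
set_option backward.isDefEq.respectTransparency false

universe u

open CategoryTheory CategoryTheory.Limits AlgebraicGeometry

namespace Groth.Agent.CompletionNear88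

variable {X Y : Scheme.{u}}

/-- The map of closed subschemes cut out by an inverse image ideal is a base change. -/
theorem level_isPullback {I : X.IdealSheafData} {K : Y.IdealSheafData} {f : X ⟶ Y}
    (e : I = K.comap f) (hle : K ≤ I.map f) :
    IsPullback (Scheme.IdealSheafData.subschemeMap I K f hle) I.subschemeι K.subschemeι f :=
  (AlgebraicGeometry.isPullback_of_isClosedImmersion I.subschemeι K.subschemeι
    (Scheme.IdealSheafData.subschemeMap I K f hle) f
    (Scheme.IdealSheafData.subschemeMap_subschemeι I K f hle).symm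
    (by simp [e])).flip

/-- A property holding over an open containing the support holds on the closed subschemes. -/
theorem prop_level (P : MorphismProperty Scheme.{u}) [P.IsStableUnderBaseChange]
    {I : X.IdealSheafData} {K : Y.IdealSheafData} {f : X ⟶ Y}
    (e : I = K.comap f) (hle : K ≤ I.map f) (V : Y.Opens) (hV : (K.support : Set Y) ⊆ V) (h : P (f ∣_ V)) :
    P (Scheme.IdealSheafData.subschemeMap I K f hle) := by
  set lev := Scheme.IdealSheafData.subschemeMap I K f hle with hlev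
  have hr : Set.range K.subschemeι ⊆ Set.range V.ι := by
    rw [K.range_subschemeι, Scheme.Opens.range_ι]; exact hV
  have hr' : Set.range I.subschemeι ⊆ Set.range (f ⁻¹ᵁ V).ι := by
    rw [Scheme.Opens.range_ι]
    rintro _ ⟨w, rfl⟩
    show f (I.subschemeι w) ∈ V
    rw [← Scheme.Hom.comp_apply, ← Scheme.IdealSheafData.subschemeMap_subschemeι I K f hle,
      Scheme.Hom.comp_apply]
    refine hV ?_
    rw [← K.range_subschemeι]
    exact ⟨_, rfl⟩
  have s : IsPullback lev (IsOpenImmersion.lift (f ⁻¹ᵁ V).ι I.subschemeι hr' ≫ (f ⁻¹ᵁ V).ι)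
      (IsOpenImmersion.lift V.ι K.subschemeι hr ≫ V.ι) f := by
    rw [IsOpenImmersion.lift_fac, IsOpenImmersion.lift_fac]
    exact level_isPullback e hle
  have p : lev ≫ IsOpenImmersion.lift V.ι K.subschemeι hr =
      IsOpenImmersion.lift (f ⁻¹ᵁ V).ι I.subschemeι hr' ≫ (f ∣_ V) := by
    rw [← cancel_mono V.ι]
    simp [hlev]
  exact MorphismProperty.of_isPullback (P := P) (IsPullback.of_bot s p (isPullback_morphismRestrict f V)).flip h

theorem comap_pow_eq {Z : Scheme.{u}} {g : X ⟶ Z} {h : Y ⟶ Z} {f : X ⟶ Y} (w : f ≫ h = g)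
    (𝓙 : Z.IdealSheafData) (n : ℕ) :
    (𝓙.comap g) ^ (n + 1) = ((𝓙.comap h) ^ (n + 1)).comap f := by
  rw [Groth.Agent.IdealSh.Comap.comap_pow, ← Scheme.IdealSheafData.comap_comp, w]

/-- A proper morphism which is a closed immersion over a closed subscheme is one nearby. -/
theorem exists_closed_nhd {I : X.IdealSheafData} {K : Y.IdealSheafData} {f : X ⟶ Y} [IsProper f]
    (e : I = K.comap f) (hle : K ≤ I.map f)
    (hc : IsClosedImmersion (Scheme.IdealSheafData.subschemeMap I K f hle)) {y : Y}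
    (hy : y ∈ (K.support : Set Y)) : ∃ U : Y.Opens, y ∈ U ∧ IsClosedImmersion (f ∣_ U) := by
  rw [← K.range_subschemeι] at hy
  obtain ⟨z, rfl⟩ := hy
  refine (S2803.result f _).2 ⟨?_, ⊤, trivial, inferInstance⟩
  haveI : IsIso (K.subschemeι.residueFieldMap z) := (ConcreteCategory.isIso_iff_bijective _).2
    (CycLib.residueFieldMap_bijective_closedImmersion K.subschemeι z)
  let t : Spec (Y.residueField (K.subschemeι z)) ⟶ K.subscheme :=
    inv (Spec.map (K.subschemeι.residueFieldMap z)) ≫ K.subscheme.fromSpecResidueField z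
  have ht : t ≫ K.subschemeι = Y.fromSpecResidueField (K.subschemeι z) := by
    simp only [t, Category.assoc, IsIso.inv_comp_eq, Scheme.Hom.SpecMap_residueFieldMap_fromSpecResidueField]
  have hl := (level_isPullback e hle).flip
  let a : f.fiber (K.subschemeι z) ⟶ I.subscheme :=
    hl.lift (f.fiberι _) (f.fiberToSpecResidueField _ ≫ t)
      (by rw [Category.assoc, ht]; exact pullback.condition)
  have s : IsPullback (a ≫ I.subschemeι) (f.fiberToSpecResidueField (K.subschemeι z)) f (t ≫ K.subschemeι) := by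
    rw [IsPullback.lift_fst, ht]
    exact IsPullback.of_hasPullback f _
  haveI : IsClosedImmersion (f.fiberToSpecResidueField (K.subschemeι z)) :=
    MorphismProperty.of_isPullback (P := @IsClosedImmersion)
      (IsPullback.of_right s (hl.lift_snd _ _ _) hl) hc
  by_cases hn : Nonempty ↥(f.fiber (K.subschemeι z))
  · right
    haveI : Surjective (f.fiberToSpecResidueField (K.subschemeι z)) :=
      ⟨fun p => ⟨hn.some, Subsingleton.elim _ _⟩⟩
    exact isIso_of_isClosedImmersion_of_surjective _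
  · exact Or.inl (not_nonempty_iff.1 hn)

theorem germ_stalkMap_eq_zero_of_eq {W : Scheme.{u}} {F G : W ⟶ Y} (e : F = G) (w : W) (U : Y.Opens)
    (hF : F w ∈ U) (hG : G w ∈ U) (s : Γ(Y, U))
    (h : G.stalkMap w (Y.presheaf.germ U (G w) hG s) = 0) :
    F.stalkMap w (Y.presheaf.germ U (F w) hF s) = 0 := by
  subst e; exact h

theorem germ_eq_zero_of_eq {a b : Y} (e : a = b) (U : Y.Opens) (ha : a ∈ U) (hb : b ∈ U) (s : Γ(Y, U))
    (h : Y.presheaf.germ U b hb s = 0) : Y.presheaf.germ U a ha s = 0 := by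
  subst e; exact h

/-- A closed immersion which is an isomorphism on all thickenings is an isomorphism nearby. -/
theorem exists_iso_nhd [IsLocallyNoetherian Y] {f : X ⟶ Y} (K : Y.IdealSheafData)
    (I : ℕ → X.IdealSheafData) (hle : ∀ n, K ^ (n + 1) ≤ (I n).map f)
    (hiso : ∀ n, IsIso (Scheme.IdealSheafData.subschemeMap (I n) (K ^ (n + 1)) f (hle n))) {y : Y}
    (hy : y ∈ (K.support : Set Y)) (V : Y.Opens) (hyV : y ∈ V) [IsClosedImmersion (f ∣_ V)] :
    ∃ U : Y.Opens, y ∈ U ∧ IsIso (f ∣_ U) := by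
  have hinj : ∀ x₁ x₂ : X, f x₁ = y → f x₂ = y → x₁ = x₂ := by
    intro x₁ x₂ h₁ h₂
    have m₁ : x₁ ∈ f ⁻¹ᵁ V := by show f x₁ ∈ V; rw [h₁]; exact hyV
    have m₂ : x₂ ∈ f ⁻¹ᵁ V := by show f x₂ ∈ V; rw [h₂]; exact hyV
    have := (f ∣_ V).isClosedEmbedding.injective (a₁ := (⟨x₁, m₁⟩ : f ⁻¹ᵁ V)) (a₂ := ⟨x₂, m₂⟩)
      (Subtype.ext (by simp only [morphismRestrict_base_coe]; exact h₁.trans h₂.symm))
    exact congrArg Subtype.val this
  have hlev : ∀ n, ∃ w : (I n).subscheme, f ((I n).subschemeι w) = y := by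
    intro n
    have hyn : y ∈ ((K ^ (n + 1)).support : Set Y) := by
      rw [Scheme.IdealSheafData.support_pow _ _ (Nat.succ_ne_zero n)]; exact hy
    rw [← Scheme.IdealSheafData.range_subschemeι] at hyn
    obtain ⟨z, rfl⟩ := hyn
    haveI := hiso n
    obtain ⟨w, hw⟩ := (Scheme.IdealSheafData.subschemeMap (I n) (K ^ (n + 1)) f (hle n)).surjective z
    refine ⟨w, ?_⟩
    rw [← Scheme.Hom.comp_apply, ← Scheme.IdealSheafData.subschemeMap_subschemeι _ _ _ (hle n),
      Scheme.Hom.comp_apply, hw]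
  -- sections killed on `X` near `y` vanish at `y`
  have hker : ∀ (x : X), f x = y → ∀ (U : Y.Opens) (hx : f x ∈ U) (s : Γ(Y, U)),
      f.stalkMap x (Y.presheaf.germ U (f x) hx s) = 0 → Y.presheaf.germ U (f x) hx s = 0 := by
    intro x hfx U hx s hs
    have hne : IntMult.stalkIdeal K (f x) ≠ ⊤ := by
      rw [Ne, Groth.Agent.IdealSh.stalkIdeal_eq_top_iff, not_not, hfx]; exact hy
    rw [← Submodule.mem_bot (R := Y.presheaf.stalk (f x)),
      ← Ideal.iInf_pow_eq_bot_of_isLocalRing (IntMult.stalkIdeal K (f x)) hne]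
    refine Submodule.mem_iInf _ |>.2 fun m => ?_
    refine Ideal.pow_le_pow_right (Nat.le_succ m) ?_
    rw [← Groth.Agent.IdealSh.stalkIdeal_pow]
    obtain ⟨w, hw⟩ := hlev m
    obtain rfl : (I m).subschemeι w = x := hinj _ _ hw hfx
    haveI := hiso m
    set lev := Scheme.IdealSheafData.subschemeMap (I m) (K ^ (m + 1)) f (hle m) with hlevdef
    have hcomp : lev ≫ (K ^ (m + 1)).subschemeι = (I m).subschemeι ≫ f :=
      Scheme.IdealSheafData.subschemeMap_subschemeι _ _ _ (hle m)
    have hmem : (lev ≫ (K ^ (m + 1)).subschemeι) w ∈ U := by rw [hcomp]; exact hx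
    have h1 : (lev ≫ (K ^ (m + 1)).subschemeι).stalkMap w (Y.presheaf.germ U _ hmem s) = 0 := by
      refine germ_stalkMap_eq_zero_of_eq hcomp w U hmem hx s ?_
      rw [Scheme.Hom.stalkMap_comp]
      show ((I m).subschemeι.stalkMap w) (f.stalkMap ((I m).subschemeι w) _) = 0
      exact (congrArg _ hs).trans (map_zero _)
    rw [Scheme.Hom.stalkMap_comp] at h1
    have h2 : (K ^ (m + 1)).subschemeι.stalkMap (lev w) (Y.presheaf.germ U _ hmem s) = 0 :=
      ((ConcreteCategory.bijective_of_isIso (lev.stalkMap w)).injective) (h1.trans (map_zero _).symm)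
    have h3 : Y.presheaf.germ U ((K ^ (m + 1)).subschemeι (lev w)) hmem s ∈
        IntMult.stalkIdeal (K ^ (m + 1)) ((K ^ (m + 1)).subschemeι (lev w)) := by
      rw [← Groth.Agent.S13600.NoEmb88.ker_stalkMap]
      exact h2
    have e : (K ^ (m + 1)).subschemeι (lev w) = f ((I m).subschemeι w) := by
      rw [← Scheme.Hom.comp_apply, hcomp, Scheme.Hom.comp_apply]
    have key : ∀ (a : Y) (ha : a ∈ U) (_ : a = (K ^ (m + 1)).subschemeι (lev w)),
        Y.presheaf.germ U a ha s ∈ IntMult.stalkIdeal (K ^ (m + 1)) a := by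
      rintro _ ha rfl; exact h3
    exact key _ hx e.symm
  -- the stalk of the kernel vanishes
  set i := f ∣_ V with hi
  haveI : IsLocallyNoetherian (V : Scheme.{u}) := LocallyOfFiniteType.isLocallyNoetherian V.ι
  let y' : (V : Scheme.{u}) := ⟨y, hyV⟩
  obtain ⟨w₀, hw₀⟩ := hlev 0
  let x' : ↥(f ⁻¹ᵁ V : Scheme.{u}) := ⟨(I 0).subschemeι w₀, by show f _ ∈ V; rw [hw₀]; exact hyV⟩
  have hix : i x' = y' := Subtype.ext (by simp only [hi, morphismRestrict_base_coe]; exact hw₀)
  haveI : IsIso (f.stalkMap x'.1) := by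
    refine (ConcreteCategory.isIso_iff_bijective _).2 ⟨?_, ?_⟩
    · refine (injective_iff_map_eq_zero _).2 fun a ha => ?_
      obtain ⟨U, hU, s, rfl⟩ := Y.presheaf.exists_germ_eq a
      exact hker _ hw₀ U hU s ha
    · have := i.stalkMap_surjective x'
      exact ((MorphismProperty.surjective CommRingCat).arrow_mk_iso_iff (morphismRestrictStalkMap f V x')).1 this
  have hbij : Function.Injective (i.stalkMap x') := by
    have : IsIso (i.stalkMap x') :=
      ((MorphismProperty.isomorphisms CommRingCat).arrow_mk_iso_iff (morphismRestrictStalkMap f V x')).2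
        (show IsIso (f.stalkMap x'.1) from inferInstance)
    exact (ConcreteCategory.bijective_of_isIso _).injective
  have h0 : IntMult.stalkIdeal i.ker (i x') = IntMult.stalkIdeal (⊥ : (V : Scheme.{u}).IdealSheafData) (i x') := by
    refine le_antisymm (iSup₂_le fun U hU => Ideal.map_le_iff_le_comap.2 fun s hs => ?_) ?_
    · rw [Ideal.mem_comap]
      have hs' : i.app U.1 s = 0 := Scheme.Hom.ideal_ker_le i U hs
      have : (V : Scheme.{u}).presheaf.germ U.1 (i x') hU s = 0 := hbij (by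
        rw [Scheme.Hom.germ_stalkMap_apply, hs', map_zero, map_zero])
      rw [this]
      exact zero_mem _
    · refine iSup₂_le fun U hU => ?_
      simp [Scheme.IdealSheafData.ideal_bot]
  obtain ⟨W, hxW, hW⟩ := Groth.Agent.IdealSh.exists_affine_ideal_eq i.ker ⊥ (i x') h0
  haveI : IsAffine (W.1 : Scheme.{u}) := W.2
  haveI : IsClosedImmersion (i ∣_ W.1) := IsZariskiLocalAtTarget.restrict (show IsClosedImmersion (f ∣_ V) from inferInstance) W.1
  have hiso' : IsIso (i ∣_ W.1) := by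
    refine IsClosedImmersion.isIso_iff_ker_eq_bot.2 (Scheme.IdealSheafData.ext_of_isAffine ?_)
    rw [Scheme.ker_morphismRestrict_ideal]
    refine Eq.trans ?_ (by simp : (⊥ : Ideal Γ((W.1 : Scheme.{u}), ⊤)) = _)
    have key : ∀ (W' : (V : Scheme.{u}).affineOpens), W' = W → i.ker.ideal W' = ⊥ := by
      rintro _ rfl
      exact hW.trans (by simp)
    exact key _ (Subtype.ext (by simp))
  refine ⟨V.ι ''ᵁ W.1, ⟨i x', hxW, ?_⟩, ?_⟩
  · exact congrArg Subtype.val hix
  · exact ((MorphismProperty.isomorphisms Scheme.{u}).arrow_mk_iso_iff (morphismRestrictRestrict f V W.1)).1 hiso'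

/-- A property near every point of the support holds over a neighbourhood of it, for a closed map. -/
theorem exists_open (P : MorphismProperty Scheme.{u}) [IsZariskiLocalAtTarget P] {Z : Scheme.{u}} {f : X ⟶ Y}
    (h : Y ⟶ Z) [UniversallyClosed h] (𝓙 : Z.IdealSheafData)
    (hloc : ∀ y ∈ ((𝓙.comap h).support : Set Y), ∃ U : Y.Opens, y ∈ U ∧ P (f ∣_ U)) :
    ∃ U : Z.Opens, (𝓙.support : Set Z) ⊆ U ∧ P (f ∣_ h ⁻¹ᵁ U) := by
  let W : Y.Opens := ⨆ U : {U : Y.Opens // P (f ∣_ U)}, U.1
  let U : Z.Opens := ⟨(h '' (W : Set Y)ᶜ)ᶜ, (h.isClosedMap _ W.2.isClosed_compl).isOpen_compl⟩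
  have hUW : ∀ y, h y ∈ U → y ∈ W := fun y hy => by_contra fun hn => hy ⟨y, hn, rfl⟩
  refine ⟨U, fun z hz => ?_, IsZariskiLocalAtTarget.of_forall_exists_morphismRestrict fun y => ?_⟩
  · rintro ⟨y, hy, rfl⟩
    have hys : y ∈ ((𝓙.comap h).support : Set Y) := by
      rw [Scheme.IdealSheafData.support_comap]; exact hz
    obtain ⟨U', hyU', hU'⟩ := hloc y hys
    exact hy (TopologicalSpace.Opens.mem_iSup.2 ⟨⟨U', hU'⟩, hyU'⟩)
  · obtain ⟨⟨U', hU'⟩, hyU'⟩ := TopologicalSpace.Opens.mem_iSup.1 (hUW y.1 y.2)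
    refine ⟨(h ⁻¹ᵁ U).ι ⁻¹ᵁ U', hyU', (P.arrow_mk_iso_iff (morphismRestrictRestrict f _ _)).2 ?_⟩
    have he : (h ⁻¹ᵁ U).ι ''ᵁ (h ⁻¹ᵁ U).ι ⁻¹ᵁ U' = U'.ι ''ᵁ (U'.ι ⁻¹ᵁ (h ⁻¹ᵁ U)) := by
      simp [Scheme.Hom.image_preimage_eq_opensRange_inf, inf_comm]
    rw [he]
    exact (P.arrow_mk_iso_iff (morphismRestrictRestrict f _ _)).1 (IsZariskiLocalAtTarget.restrict hU' _)

end Groth.Agent.CompletionNear88
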